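import Cfsg.Agent.Lib.Thompson.PSolvable
import Cfsg.Agent.Lib.BlocksCore.PPart

/-!
Products of two central elements of order `p` inside a `p`-soluble group.
-/

set_option autoImplicit false

open Subgroup

namespace Cfsg.Agent.X97P

open Cfsg

variable {H : Type*} [Group H] [Finite H] {p : ℕ} [hp : Fact p.Prime]

/-- `x` is central in every Sylow `p`-subgroup containing it. -/
def SylCentral (p : ℕ) {H : Type*} [Group H] (x : H) : Prop :=
  ∀ S : Sylow p H, x ∈ (S : Subgroup H) → ∀ s ∈ (S : Subgroup H), s * x = x * s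

theorem SylCentral.conj {x : H} (hx : SylCentral p x) (c : H) : SylCentral p (c * x * c⁻¹) := by
  intro S hS s hs
  have h1 := hx ((MulAut.conj c⁻¹) • S) ?_ (c⁻¹ * s * c) ?_
  · have h2 := congrArg (fun z => c * z * c⁻¹) h1
    simpa [mul_assoc] using h2
  · rw [Sylow.pointwise_smul_def, Subgroup.mem_smul_pointwise_iff_exists]
    exact ⟨c * x * c⁻¹, hS, by simp [mul_assoc]⟩
  · rw [Sylow.pointwise_smul_def, Subgroup.mem_smul_pointwise_iff_exists]
    exact ⟨s, hs, by simp [mul_assoc]⟩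

/-- Two `p`-elements with equal images modulo a normal `p'`-subgroup `N` are conjugate under `N`. -/
theorem exists_conj_of_mk_eq (N : Subgroup H) [N.Normal] (hN : ¬ p ∣ Nat.card N) {u v : H}
    (hu : ∃ k, orderOf u = p ^ k) (hv : ∃ k, orderOf v = p ^ k)
    (h : QuotientGroup.mk' N u = QuotientGroup.mk' N v) :
    ∃ n ∈ N, n * u * n⁻¹ = v := by
  obtain ⟨ku, hku⟩ := hu
  obtain ⟨kv, hkv⟩ := hv
  have hcop : ∀ k, (p ^ k).Coprime (Nat.card N) := fun k =>
    Nat.Coprime.pow_left _ ((hp.out.coprime_iff_not_dvd).mpr hN)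
  have hinj : ∀ (a : H) (k : ℕ), orderOf a = p ^ k →
      orderOf (QuotientGroup.mk' N a) = orderOf a := by
    intro a k ha
    refine Nat.dvd_antisymm (orderOf_map_dvd _ a) ?_
    have h1 : a ^ orderOf (QuotientGroup.mk' N a) ∈ N := by
      rw [← QuotientGroup.eq_one_iff, ← QuotientGroup.mk'_apply, map_pow, pow_orderOf_eq_one]
    have h2 : orderOf (a ^ orderOf (QuotientGroup.mk' N a)) = 1 :=
      Nat.eq_one_of_dvd_coprimes ((hcop k)) (ha ▸ orderOf_pow_dvd _) (N.orderOf_dvd_natCard h1)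
    exact orderOf_dvd_of_pow_eq_one (orderOf_eq_one_iff.mp h2)
  let L : Subgroup H := N ⊔ zpowers v
  have hcardL : Nat.card L ∣ Nat.card N * Nat.card (zpowers v) := by
    have := Cfsg.Agent.Thompson.card_sup_dvd_mul (zpowers v) N
    rwa [sup_comm, mul_comm] at this
  have hpV : IsPGroup p (zpowers v) :=
    IsPGroup.of_card (n := kv) (by rw [Nat.card_zpowers, hkv])
  have hvL : zpowers v ≤ L := le_sup_right
  have huL : u ∈ L := by
    have h1 : v⁻¹ * u ∈ N := by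
      rw [← QuotientGroup.eq_one_iff, ← QuotientGroup.mk'_apply, map_mul, map_inv, h, inv_mul_cancel]
    have := L.mul_mem (hvL (mem_zpowers v)) (le_sup_left (b := zpowers v) h1)
    rwa [mul_inv_cancel_left] at this
  obtain ⟨S, hS⟩ := (hpV.comap_subtype (K := L)).exists_le_sylow
  have hSeq : (S : Subgroup L) = (zpowers v).subgroupOf L := by
    refine (Subgroup.eq_of_le_of_card_ge hS ?_).symm
    obtain ⟨j, hj⟩ := IsPGroup.iff_card.mp S.isPGroup'
    show Nat.card _ ≤ Nat.card ↥((zpowers v).subgroupOf L)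
    rw [hj, Nat.card_congr (Subgroup.subgroupOfEquivOfLe hvL).toEquiv]
    refine Nat.le_of_dvd Nat.card_pos ?_
    refine ((Nat.Coprime.dvd_of_dvd_mul_left ?_)
      ((hj ▸ Subgroup.card_subgroup_dvd_card (S : Subgroup L)).trans hcardL))
    exact hcop j
  have hpU : IsPGroup p (zpowers (⟨u, huL⟩ : L)) :=
    IsPGroup.of_card (n := ku) (by rw [Nat.card_zpowers, Subgroup.orderOf_mk, hku])
  obtain ⟨T, hT⟩ := hpU.exists_le_sylow
  obtain ⟨c, hc⟩ := MulAction.exists_smul_eq L T S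
  have hcu : (c : H) * u * (c : H)⁻¹ ∈ zpowers v := by
    have h1 : c * ⟨u, huL⟩ * c⁻¹ ∈ (S : Subgroup L) := by
      rw [← hc, Sylow.coe_subgroup_smul, Subgroup.mem_smul_pointwise_iff_exists]
      exact ⟨_, hT (mem_zpowers _), rfl⟩
    rw [hSeq, mem_subgroupOf] at h1
    simpa using h1
  obtain ⟨n, hn, w, hw, hcnw⟩ : ∃ n ∈ N, ∃ w ∈ zpowers v, (c : H) = w * n := by
    have := c.2
    rw [show ((c : H) ∈ L) ↔ (c : H) ∈ zpowers v ⊔ N by rw [sup_comm]] at this
    rw [← SetLike.mem_coe, Subgroup.mul_normal] at this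
    obtain ⟨w, hw, n, hn, e⟩ := this
    exact ⟨n, hn, w, hw, e.symm⟩
  have hz : n * u * n⁻¹ ∈ zpowers v := by
    have := (zpowers v).mul_mem ((zpowers v).mul_mem ((zpowers v).inv_mem hw) hcu) hw
    simpa [hcnw, mul_assoc] using this
  refine ⟨n, hn, ?_⟩
  obtain ⟨i, hi⟩ := mem_zpowers_iff.mp hz
  rw [← hi]
  have hn1 : QuotientGroup.mk' N n = 1 := (QuotientGroup.eq_one_iff n).mpr hn
  have h2 : (QuotientGroup.mk' N v) ^ i = (QuotientGroup.mk' N v) ^ (1 : ℤ) := by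
    rw [← map_zpow, hi, map_mul, map_mul, map_inv, hn1, one_mul, inv_one, mul_one, h, zpow_one]
  rw [zpow_eq_zpow_iff_modEq, hinj v kv hkv] at h2
  conv_rhs => rw [← zpow_one v]
  exact zpow_eq_zpow_iff_modEq.mpr h2

/-- In a `p`-soluble group an element central in a Sylow `p`-subgroup lies in `O_{p',p}`. -/
theorem mk_mem_pCore (hH : IsPSolvable p H) {x : H} (S : Sylow p H)
    (hxS : x ∈ (S : Subgroup H)) (hc : ∀ s ∈ (S : Subgroup H), s * x = x * s) :
    QuotientGroup.mk' (pPrimeCore p H) x ∈ pCore p (H ⧸ pPrimeCore p H) := by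
  have hf := QuotientGroup.mk'_surjective (pPrimeCore p H)
  refine Thompson.centralizer_pCore_le (Thompson.isPSolvable_quotient _ hH)
    Thompson.pPrimeCore_quotient_pPrimeCore ?_
  rw [mem_centralizer_iff]
  intro r hr
  have h1 := Thompson.pCore_le_sylow (S.mapSurjective hf) hr
  rw [Sylow.coe_mapSurjective] at h1
  obtain ⟨s, hs, rfl⟩ := h1
  rw [← map_mul, ← map_mul, hc s hs]

/-- The `p`-part of a product of two such elements of order `p` is conjugate to the product of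
conjugates lying in the centre of a common Sylow `p`-subgroup. -/
theorem ppart_mul_conj (hH : IsPSolvable p H) {x y u : H} (hx : x ^ p = 1) (hy : y ^ p = 1)
    (hxc : SylCentral p x) (hyc : SylCentral p y) (hu : IsPPart p (x * y) u) :
    ∃ (S : Sylow p H) (c d : H), x ∈ (S : Subgroup H) ∧ d * y * d⁻¹ ∈ (S : Subgroup H) ∧
      c * u * c⁻¹ = x * (d * y * d⁻¹) := by
  set O := pPrimeCore p H with hO
  set π := QuotientGroup.mk' O with hπ
  have hOp : ¬ p ∣ Nat.card O := Thompson.not_dvd_card_pPrimeCore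
  have hord : ∀ a : H, a ^ p = 1 → ∃ k, orderOf a = p ^ k := fun a ha => by
    obtain ⟨k, -, hk⟩ := (Nat.dvd_prime_pow hp.out).mp
      (show orderOf a ∣ p ^ 1 by simpa using orderOf_dvd_of_pow_eq_one ha)
    exact ⟨k, hk⟩
  have hsyl : ∀ a : H, (∃ k, orderOf a = p ^ k) → ∃ S : Sylow p H, a ∈ (S : Subgroup H) := by
    rintro a ⟨k, hk⟩
    obtain ⟨S, hS⟩ := (IsPGroup.of_card (n := k) (p := p)
      (G := zpowers a) (by rw [Nat.card_zpowers, hk])).exists_le_sylow
    exact ⟨S, hS (mem_zpowers a)⟩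
  obtain ⟨S, hxS⟩ := hsyl x (hord x hx)
  obtain ⟨T, hyT⟩ := hsyl y (hord y hy)
  have hyR := mk_mem_pCore hH T hyT (hyc T hyT)
  have hf := QuotientGroup.mk'_surjective O
  obtain ⟨y', hy'S, hy'⟩ : ∃ y' ∈ (S : Subgroup H), π y' = π y := by
    have h1 := Thompson.pCore_le_sylow (S.mapSurjective hf) hyR
    rw [Sylow.coe_mapSurjective] at h1
    obtain ⟨y', h1, h2⟩ := h1
    exact ⟨y', h1, h2⟩
  have hy'p : ∃ k, orderOf y' = p ^ k := by
    obtain ⟨k, hk⟩ := IsPGroup.iff_orderOf.mp S.isPGroup' ⟨y', hy'S⟩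
    exact ⟨k, by rwa [Subgroup.orderOf_mk] at hk⟩
  obtain ⟨d, -, hd⟩ := exists_conj_of_mk_eq O hOp (hord y hy) hy'p hy'.symm
  obtain ⟨z, hz, hcomm, ⟨k, hk⟩, hzp⟩ := hu
  have hxy' : ∃ k, orderOf (x * y') = p ^ k := by
    obtain ⟨k, hk⟩ := IsPGroup.iff_orderOf.mp S.isPGroup' ⟨x * y', mul_mem hxS hy'S⟩
    exact ⟨k, by rwa [Subgroup.orderOf_mk] at hk⟩
  have himg : π u = π (x * y') := by
    obtain ⟨j, hj⟩ := hxy'
    obtain ⟨a, -, ha⟩ := (Nat.dvd_prime_pow hp.out).mp (hj ▸ orderOf_map_dvd π (x * y'))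
    obtain ⟨b, -, hb⟩ := (Nat.dvd_prime_pow hp.out).mp (hk ▸ orderOf_map_dvd π u)
    refine BlocksCore.isPPart_unique hp.out (g := π (x * y)) ?_ ?_
    · exact ⟨π z, by rw [← map_mul, hz], hcomm.map π, ⟨b, hb⟩,
        fun h => hzp (h.trans (orderOf_map_dvd π z))⟩
    · exact ⟨1, by rw [mul_one, map_mul, map_mul, hy'], Commute.one_right _, ⟨a, ha⟩,
        by simpa using hp.out.one_lt.ne'⟩
  obtain ⟨c, -, hc⟩ := exists_conj_of_mk_eq O hOp ⟨k, hk⟩ hxy' himg
  exact ⟨S, c, d, hxS, hd ▸ hy'S, by rw [hc, hd]⟩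

end Cfsg.Agent.X97P
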