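import Cfsg.Agent.X97P.PSolv

/-!
`p`-parts of products of conjugates of central elements of order `p` when `N(P)` controls fusion
and pairs of elements of order `p` generate `p`-soluble subgroups.
-/

set_option autoImplicit false
set_option linter.unusedSectionVars false

open Subgroup

namespace Cfsg.Agent.X97P

open Cfsg

variable {G : Type*} [Group G] [Finite G] {p : ℕ} [hp : Fact p.Prime]

/-- The set `Ω₁(Z(P))`. -/
def omegaZ (P : Sylow p G) : Set G :=
  {z | z ∈ (P : Subgroup G) ∧ z ^ p = 1 ∧ ∀ s ∈ (P : Subgroup G), s * z = z * s}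

/-- Elements conjugate into `Ω₁(Z(P))`. -/
def IsZType (P : Sylow p G) (x : G) : Prop := ∃ g : G, g * x * g⁻¹ ∈ omegaZ P

variable {P : Sylow p G}

theorem IsZType.pow_eq_one {x : G} (h : IsZType P x) : x ^ p = 1 := by
  obtain ⟨g, -, h, -⟩ := h
  rwa [conj_pow, mul_inv_eq_one, mul_eq_left] at h

theorem IsZType.conj {x : G} (h : IsZType P x) (c : G) : IsZType P (c * x * c⁻¹) := by
  obtain ⟨g, hg⟩ := h
  refine ⟨g * c⁻¹, ?_⟩
  rwa [show g * c⁻¹ * (c * x * c⁻¹) * (g * c⁻¹)⁻¹ = g * x * g⁻¹ by group]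

theorem omegaZ_mul {a b : G} (ha : a ∈ omegaZ P) (hb : b ∈ omegaZ P) : a * b ∈ omegaZ P := by
  obtain ⟨haP, hap, hac⟩ := ha
  obtain ⟨hbP, hbp, hbc⟩ := hb
  refine ⟨mul_mem haP hbP, ?_, fun s hs => ?_⟩
  · rw [(show Commute a b from hbc a haP).mul_pow, hap, hbp, one_mul]
  · rw [← mul_assoc, hac s hs, mul_assoc, hbc s hs, mul_assoc]

/-- Control of fusion by the normaliser makes elements of `Ω₁(Z(P))` central in every Sylow
`p`-subgroup containing them. -/
theorem IsZType.sylCentral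
    (ha : ∀ x ∈ (P : Subgroup G), ∀ y ∈ (P : Subgroup G), (∃ g : G, g * x * g⁻¹ = y) →
      ∃ n ∈ normalizer ((P : Subgroup G) : Set G), n * x * n⁻¹ = y)
    {x : G} (h : IsZType P x) : SylCentral p x := by
  obtain ⟨g, hgP, -, hgc⟩ := h
  intro S hxS s hs
  obtain ⟨e, he⟩ := MulAction.exists_smul_eq G S P
  have hmem : ∀ a ∈ (S : Subgroup G), e * a * e⁻¹ ∈ (P : Subgroup G) := by
    intro a ha'
    rw [← he, Sylow.smul_def, Sylow.pointwise_smul_def, Subgroup.mem_smul_pointwise_iff_exists]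
    exact ⟨a, ha', rfl⟩
  obtain ⟨n, hn, hnx⟩ := ha _ hgP _ (hmem x hxS) ⟨e * g⁻¹, by group⟩
  have h1 : n⁻¹ * (e * s * e⁻¹) * n ∈ (P : Subgroup G) := by
    have := (Subgroup.mem_normalizer_iff'.mp hn (n⁻¹ * (e * s * e⁻¹))).mpr
      (by rw [mul_inv_cancel_left]; exact hmem s hs)
    exact this
  have h2 := congrArg (fun z => n * z * n⁻¹) (hgc _ h1)
  have h3 : (e * s * e⁻¹) * (n * (g * x * g⁻¹) * n⁻¹) = (n * (g * x * g⁻¹) * n⁻¹) * (e * s * e⁻¹) := by
    simpa [mul_assoc] using h2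
  have h4 : (e * s * e⁻¹) * (e * x * e⁻¹) = (e * x * e⁻¹) * (e * s * e⁻¹) := by
    rw [← hnx]; exact h3
  have h5 := congrArg (fun z => e⁻¹ * z * e) h4
  simpa [mul_assoc] using h5

/-- Two elements of type `Z` in a common Sylow `p`-subgroup have product of type `Z`. -/
theorem IsZType.mul_of_mem
    (ha : ∀ x ∈ (P : Subgroup G), ∀ y ∈ (P : Subgroup G), (∃ g : G, g * x * g⁻¹ = y) →
      ∃ n ∈ normalizer ((P : Subgroup G) : Set G), n * x * n⁻¹ = y)
    {x y : G} (hx : IsZType P x) (hy : IsZType P y) (S : Sylow p G)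
    (hxS : x ∈ (S : Subgroup G)) (hyS : y ∈ (S : Subgroup G)) : IsZType P (x * y) := by
  obtain ⟨e, he⟩ := MulAction.exists_smul_eq G S P
  have hz : ∀ a : G, IsZType P a → a ∈ (S : Subgroup G) → e * a * e⁻¹ ∈ omegaZ P := by
    intro a hat haS
    have hmem : e * a * e⁻¹ ∈ (P : Subgroup G) := by
      rw [← he, Sylow.smul_def, Sylow.pointwise_smul_def, Subgroup.mem_smul_pointwise_iff_exists]
      exact ⟨a, haS, rfl⟩
    exact ⟨hmem, (hat.conj e).pow_eq_one, (hat.conj e).sylCentral ha P hmem⟩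
  refine ⟨e, ?_⟩
  rw [show e * (x * y) * e⁻¹ = (e * x * e⁻¹) * (e * y * e⁻¹) by group]
  exact omegaZ_mul (hz x hx hxS) (hz y hy hyS)

/-- The `p`-part of a product of two elements of type `Z` is again of type `Z`. -/
theorem IsZType.ppart_mul
    (ha : ∀ x ∈ (P : Subgroup G), ∀ y ∈ (P : Subgroup G), (∃ g : G, g * x * g⁻¹ = y) →
      ∃ n ∈ normalizer ((P : Subgroup G) : Set G), n * x * n⁻¹ = y)
    (hc : ∀ x y : G, orderOf x = p → orderOf y = p →
      IsPSolvable p ↥(Subgroup.closure ({x, y} : Set G)))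
    {x y u : G} (hx : IsZType P x) (hy : IsZType P y) (hx1 : x ≠ 1) (hy1 : y ≠ 1)
    (hu : IsPPart p (x * y) u) : IsZType P u := by
  set H := Subgroup.closure ({x, y} : Set G) with hH
  have hxH : x ∈ H := Subgroup.subset_closure (Set.mem_insert _ _)
  have hyH : y ∈ H := Subgroup.subset_closure (Set.mem_insert_of_mem _ rfl)
  have hsol := hc x y (orderOf_eq_prime hx.pow_eq_one hx1) (orderOf_eq_prime hy.pow_eq_one hy1)
  have hres : ∀ a : H, IsZType P (a : G) → SylCentral p a := by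
    intro a hat T haT s hs
    obtain ⟨S, hS⟩ := (T.isPGroup'.map H.subtype).exists_le_sylow
    exact Subtype.ext (hat.sylCentral ha S (hS ⟨a, haT, rfl⟩) s (hS ⟨s, hs, rfl⟩))
  obtain ⟨u', hu'⟩ := BlocksCore.exists_pPart hp.out (⟨x, hxH⟩ * ⟨y, hyH⟩ : H)
  have hu'u : (u' : G) = u := by
    refine BlocksCore.isPPart_unique hp.out ?_ hu
    obtain ⟨z, hz, hzc, ⟨k, hk⟩, hzp⟩ := hu'
    exact ⟨z, by simpa using congrArg Subtype.val hz, hzc.map H.subtype,
      ⟨k, by rwa [Subgroup.orderOf_coe]⟩, by rwa [Subgroup.orderOf_coe]⟩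
  obtain ⟨T, c, d, hxT, hyT, hcu⟩ := ppart_mul_conj hsol
    (Subtype.ext (by simpa using hx.pow_eq_one)) (Subtype.ext (by simpa using hy.pow_eq_one))
    (hres _ hx) (hres _ hy) hu'
  obtain ⟨S, hS⟩ := (T.isPGroup'.map H.subtype).exists_le_sylow
  have h1 : IsZType P ((c : G) * u * (c : G)⁻¹) := by
    have e := congrArg Subtype.val hcu
    push_cast at e
    rw [hu'u] at e
    rw [e]
    exact hx.mul_of_mem ha (hy.conj _) S (hS ⟨_, hxT, rfl⟩) (hS ⟨_, hyT, rfl⟩)
  have h2 := h1.conj (c : G)⁻¹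
  simpa [mul_assoc] using h2

end Cfsg.Agent.X97P
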